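import Mathlib.LinearAlgebra.Eigenspace.Basic
import Mathlib.LinearAlgebra.BilinearForm.Properties
import Mathlib.LinearAlgebra.BilinearForm.Orthogonal
import Mathlib.Algebra.Polynomial.Reverse
import Mathlib.RingTheory.Coprime.Lemmas
import Mathlib.RingTheory.Artinian.Module

/-!
# Adjoints of polynomials in an endomorphism for a bilinear form
-/

namespace GrothLib.AbVarAlg

open Polynomial

variable {k : Type*} [Field k] {V : Type*} [AddCommGroup V] [Module k V]

/-- If `B (f x) y = B x (g y)` then `B (p(f) x) y = B x (p(g) y)`. -/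
theorem aeval_adjoint (B : LinearMap.BilinForm k V) (f g : Module.End k V)
    (h : ∀ x y, B (f x) y = B x (g y)) (p : k[X]) :
    ∀ x y, B (aeval f p x) y = B x (aeval g p y) := by
  induction p using Polynomial.induction_on' with
  | add p q hp hq => intro x y; simp [hp, hq]
  | monomial n c =>
    intro x y
    have : ∀ m x y, B ((f ^ m) x) y = B x ((g ^ m) y) := fun m => by
      induction m with
      | zero => simp
      | succ m ih => intro x y; rw [pow_succ', pow_succ, Module.End.mul_apply, h, ih, Module.End.mul_apply]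
    simp [aeval_monomial, Module.algebraMap_end_apply, this]

/-- `B (p(f)^n x) y = B x (p(g)^n y)`. -/
theorem aeval_pow_adjoint (B : LinearMap.BilinForm k V) (f g : Module.End k V)
    (h : ∀ x y, B (f x) y = B x (g y)) (p : k[X]) (n : ℕ) (x y : V) :
    B ((aeval f p ^ n) x) y = B x ((aeval g p ^ n) y) := by
  rw [← map_pow, ← map_pow, aeval_adjoint B f g h]

variable {A : Type*} [Ring A] [Algebra k A]

/-- The reversal of `p` at `f` is `f ^ deg p` times `p` at `f⁻¹`. -/
theorem aeval_reflect_eq (f g : A) (hfg : f * g = 1) (hgf : g * f = 1) (N : ℕ) (p : k[X])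
    (hp : p.natDegree ≤ N) : aeval f (reflect N p) = f ^ N * aeval g p := by
  refine Polynomial.induction_with_natDegree_le
    (fun p => aeval f (reflect N p) = f ^ N * aeval g p) N ?_ ?_ ?_ p hp
  · simp
  · intro n r _ hn
    rw [reflect_C_mul_X_pow, Polynomial.revAt_le hn]
    simp only [map_mul, aeval_C, map_pow, aeval_X]
    obtain ⟨d, rfl⟩ := Nat.exists_eq_add_of_le hn
    have hc : Commute f g := hfg.trans hgf.symm
    rw [Nat.add_sub_cancel_left, add_comm n d, pow_add, ← mul_assoc, mul_assoc (f ^ d), ← Algebra.commutes r (f ^ n),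
      ← mul_assoc, mul_assoc _ (f ^ n) (g ^ n), ← hc.mul_pow, hfg, one_pow, mul_one,
      Algebra.commutes r (f ^ d)]
  · intro p q _ _ hp hq
    rw [reflect_add, map_add, map_add, hp, hq, mul_add]

theorem aeval_reverse_eq (f g : A) (hfg : f * g = 1) (hgf : g * f = 1) (p : k[X]) :
    aeval f p.reverse = f ^ p.natDegree * aeval g p :=
  aeval_reflect_eq f g hfg hgf _ p le_rfl

/-- If `p ^ n` and `q ^ m` kill `x` resp. are coprime, `y` killed by `q ^ m` lies in the range of `p ^ n`. -/
theorem exists_eq_aeval_of_isCoprime (f : Module.End k V) {p q : k[X]} (h : IsCoprime p q) (n m : ℕ)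
    {y : V} (hy : (aeval f q ^ m) y = 0) : ∃ z, y = (aeval f p ^ n) z := by
  obtain ⟨a, b, hab⟩ := h.pow (m := n) (n := m)
  refine ⟨aeval f a y, ?_⟩
  have := congrArg (fun r => aeval f r y) hab
  simp only [map_add, map_mul, map_pow, map_one, LinearMap.add_apply, Module.End.mul_apply, hy, map_zero,
    add_zero, Module.End.one_apply] at this
  rw [← map_pow, ← Module.End.mul_apply, ← map_mul, mul_comm, map_mul, Module.End.mul_apply, map_pow, this]

end GrothLib.AbVarAlg
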