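import Mathlib.Analysis.Complex.Polynomial.Basic
import Mathlib.FieldTheory.Perfect
import Mathlib.RingTheory.Adjoin.PowerBasis
import Mathlib.Topology.Algebra.Polynomial
import Mathlib.Algebra.Algebra.Rat
import Mathlib.LinearAlgebra.Lagrange

/-!
# Positive functionals on `ℚ[X] / (m)`

If a linear functional on `ℚ[X]` kills the multiples of a monic polynomial `m` and is positive on
squares not divisible by `m`, then `m` is squarefree with real roots.
-/

namespace GrothLib.AbVarAlg

open Polynomial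

/-- The real extension of a functional on rational polynomials. -/
noncomputable def realExt (L : ℚ[X] →ₗ[ℚ] ℚ) : ℝ[X] →ₗ[ℝ] ℝ where
  toFun p := p.sum fun n c => c * ((L (X ^ n) : ℚ) : ℝ)
  map_add' p q := Polynomial.sum_add_index p q _ (fun _ => zero_mul _) (fun _ _ _ => add_mul _ _ _)
  map_smul' c p := by
    rw [RingHom.id_apply, Polynomial.sum_smul_index p c (fun n c => c * ((L (X ^ n) : ℚ) : ℝ)) (fun _ => zero_mul _), Polynomial.sum_def,
      Polynomial.sum_def, smul_eq_mul, Finset.mul_sum]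
    exact Finset.sum_congr rfl fun i _ => mul_assoc _ _ _

theorem realExt_monomial (L : ℚ[X] →ₗ[ℚ] ℚ) (n : ℕ) (c : ℝ) :
    realExt L (monomial n c) = c * (L (X ^ n) : ℚ) := by
  simp [realExt]

theorem realExt_map (L : ℚ[X] →ₗ[ℚ] ℚ) (p : ℚ[X]) :
    realExt L (p.map (algebraMap ℚ ℝ)) = (L p : ℚ) := by
  induction p using Polynomial.induction_on' with
  | add p q hp hq => simp [hp, hq]
  | monomial n c =>
    rw [Polynomial.map_monomial, realExt_monomial, ← C_mul_X_pow_eq_monomial, ← smul_eq_C_mul, map_smul]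
    simp

/-- The polynomial with coefficients `t`. -/
noncomputable def ofCoeffs {d : ℕ} (t : Fin d → ℝ) : ℝ[X] := ∑ i : Fin d, monomial (i : ℕ) (t i)

theorem ofCoeffs_coeff {d : ℕ} {P : ℝ[X]} (hP : P.natDegree < d) : ofCoeffs (fun i : Fin d => P.coeff i) = P := by
  rw [ofCoeffs, Fin.sum_univ_eq_sum_range (fun i => monomial i (P.coeff i)) d]
  exact (Polynomial.as_sum_range' P d hP).symm

section

variable {m : ℚ[X]} {L : ℚ[X] →ₗ[ℚ] ℚ} (hm : m.Monic) (hker : ∀ P, m ∣ P → L P = 0)
  (hpos : ∀ P, ¬ m ∣ P → 0 < L (P * P))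

include hker hpos in
theorem nonneg_sq (P : ℚ[X]) : 0 ≤ L (P * P) := by
  by_cases h : m ∣ P
  · rw [hker _ (dvd_mul_of_dvd_left h P)]
  · exact (hpos P h).le

include hm hker hpos in
theorem squarefree_of_pos : Squarefree m := by
  rw [squarefree_iff_no_irreducibles (x := m)] <;> [skip; exact hm.ne_zero]
  rintro p hp ⟨k, hk⟩
  have hp0 : p ≠ 0 := hp.ne_zero
  have hk0 : k ≠ 0 := by rintro rfl; exact hm.ne_zero (by rw [hk, mul_zero])
  have hndvd : ¬ m ∣ p * k := by
    intro h
    have := Polynomial.degree_le_of_dvd h (mul_ne_zero hp0 hk0)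
    rw [hk, mul_assoc, degree_mul (p := p) (q := p * k), degree_eq_natDegree hp0,
      degree_eq_natDegree (mul_ne_zero hp0 hk0)] at this
    have h1 := hp.natDegree_pos
    norm_cast at this
    omega
  have := hpos _ hndvd
  rw [hker _ ⟨k, by rw [hk]; ring⟩] at this
  exact this.false

include hker hpos in
theorem realExt_sq_nonneg {d : ℕ} (t : Fin d → ℝ) : 0 ≤ realExt L (ofCoeffs t * ofCoeffs t) := by
  have hdense : DenseRange (fun (q : Fin d → ℚ) i => (q i : ℝ)) :=
    DenseRange.piMap fun _ => Rat.denseRange_cast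
  refine hdense.induction_on t (isClosed_le continuous_const ?_) fun q => ?_
  · simp only [ofCoeffs, Finset.sum_mul, Finset.mul_sum, monomial_mul_monomial, map_sum, realExt_monomial]
    fun_prop
  · have : ofCoeffs (fun i => (q i : ℝ)) = (∑ i : Fin d, monomial (i : ℕ) (q i)).map (algebraMap ℚ ℝ) := by
      simp [ofCoeffs, Polynomial.map_sum]
    rw [this, ← Polynomial.map_mul, realExt_map]
    exact_mod_cast nonneg_sq hker hpos _

include hker hpos in
theorem realExt_sq_nonneg' (P : ℝ[X]) : 0 ≤ realExt L (P * P) := by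
  rw [← ofCoeffs_coeff (P := P) (d := P.natDegree + 1)
    (Nat.lt_succ_self _)]
  exact realExt_sq_nonneg hker hpos _

include hm hker hpos in
theorem realExt_sq_pos {P : ℝ[X]} (hP0 : P ≠ 0) (hP : P.natDegree < m.natDegree) :
    0 < realExt L (P * P) := by
  refine (realExt_sq_nonneg' hker hpos P).lt_of_ne fun h0 => ?_
  have horth : ∀ Q, realExt L (P * Q) = 0 := by
    intro Q
    have hq : ∀ t : ℝ, 0 ≤ realExt L (Q * Q) * (t * t) + 2 * realExt L (P * Q) * t + 0 := fun t => by
      have := realExt_sq_nonneg' hker hpos (P + t • Q)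
      simp only [add_mul, mul_add, smul_mul_assoc, mul_smul_comm, map_add, map_smul, smul_eq_mul, ← h0,
        mul_comm Q P] at this
      linarith
    have := discrim_le_zero hq
    simp only [discrim, mul_zero, sub_zero] at this
    have := le_antisymm this (sq_nonneg _)
    simpa using this
  obtain ⟨i₀, hi₀⟩ : ∃ i, P.coeff i ≠ 0 := ⟨P.natDegree, by simpa [Polynomial.coeff_natDegree] using hP0⟩
  obtain ⟨φ, hφ⟩ : ∃ φ : ℝ →ₗ[ℚ] ℚ, φ (P.coeff i₀) ≠ 0 := by
    by_contra h
    push Not at h
    exact hi₀ ((Module.forall_dual_apply_eq_zero_iff ℚ _).1 h)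
  let N : ℚ[X] := ∑ i ∈ Finset.range m.natDegree, monomial i (φ (P.coeff i))
  have hN0 : N ≠ 0 := fun h => hφ (by
    have := congrArg (fun q : ℚ[X] => q.coeff i₀) h
    simpa [N, Polynomial.coeff_monomial, Finset.sum_ite_eq',
      show i₀ < m.natDegree from lt_of_le_of_lt (Polynomial.le_natDegree_of_ne_zero hi₀) hP] using this)
  have hNdeg : N.degree < m.degree := by
    refine lt_of_le_of_lt (Polynomial.degree_sum_le _ _) ((Finset.sup_lt_iff ?_).2 fun i hi => ?_)
    · rw [degree_eq_natDegree hm.ne_zero]; exact WithBot.bot_lt_coe _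
    · refine lt_of_le_of_lt (degree_monomial_le _ _) ?_
      rw [degree_eq_natDegree hm.ne_zero]; exact_mod_cast Finset.mem_range.1 hi
  have hLN : ∀ j, L (N * X ^ j) = 0 := fun j => by
    have hj := horth (monomial j 1)
    nth_rw 1 [Polynomial.as_sum_range' P _ hP] at hj
    simp only [Finset.sum_mul, monomial_mul_monomial, mul_one, map_sum, realExt_monomial] at hj
    simp only [N, Finset.sum_mul, map_sum]
    have hj' := congrArg φ hj
    rw [map_sum, map_zero] at hj'
    refine Eq.trans (Finset.sum_congr rfl fun i _ => ?_) hj'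
    rw [← monomial_one_right_eq_X_pow, monomial_mul_monomial, mul_one,
      show P.coeff i * ((L (X ^ (i + j)) : ℚ) : ℝ) = (L (X ^ (i + j))) • P.coeff i by
        rw [Rat.smul_def, mul_comm], map_smul, ← mul_one (φ (P.coeff i)), ← smul_eq_mul, ← smul_monomial,
      map_smul, monomial_one_right_eq_X_pow]
    simp [mul_comm]
  have hzero : ∀ Q : ℚ[X], L (N * Q) = 0 := fun Q => by
    induction Q using Polynomial.induction_on' with
    | add p q hp hq => simp [mul_add, hp, hq]
    | monomial n c => rw [← C_mul_X_pow_eq_monomial, mul_left_comm, ← smul_eq_C_mul, map_smul, hLN, smul_zero]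
  have hnd : ¬ m ∣ N := fun h => hN0 (Polynomial.eq_zero_of_dvd_of_degree_lt h hNdeg)
  exact (hpos N hnd).ne' (hzero N)

theorem monic_quot {R : Type*} [CommRing R] [IsDomain R] {p q n : R[X]} (hp : p.Monic) (hq : q.Monic)
    (h : p = q * n) : n.Monic := hq.of_mul_monic_left (h ▸ hp)

theorem realExt_mul_eq_zero (hker : ∀ P, m ∣ P → L P = 0) (Q : ℝ[X]) :
    realExt L (m.map (algebraMap ℚ ℝ) * Q) = 0 := by
  induction Q using Polynomial.induction_on' with
  | add p q hp hq => simp [mul_add, hp, hq]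
  | monomial n c =>
    have : m.map (algebraMap ℚ ℝ) * monomial n c = c • (m * X ^ n).map (algebraMap ℚ ℝ) := by
      rw [Polynomial.map_mul, Polynomial.map_pow, Polynomial.map_X, smul_eq_C_mul, ← C_mul_X_pow_eq_monomial]
      ring
    rw [this, map_smul, realExt_map, hker _ (dvd_mul_right m _)]
    simp

include hm hker hpos in
theorem im_eq_zero_of_pos {z : ℂ} (hz : aeval z m = 0) : z.im = 0 := by
  by_contra hb
  set mr := m.map (algebraMap ℚ ℝ) with hmr
  have hz' : aeval z mr = 0 := by rw [hmr, aeval_map_algebraMap, hz]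
  obtain ⟨n, hn⟩ := mr.quadratic_dvd_of_aeval_eq_zero_im_ne_zero hz' hb
  have hqm : (X ^ 2 - C (2 * z.re) * X + C (‖z‖ ^ 2)).Monic := by monicity!
  have hnm : n.Monic := monic_quot (hm.map _) hqm hn
  have hdeg : n.natDegree + 2 = m.natDegree := by
    have := congrArg natDegree hn
    rw [hqm.natDegree_mul hnm, hmr, hm.natDegree_map] at this
    rw [this, add_comm]
    congr 1
    symm
    compute_degree!
  have key : mr * n = ((X - C z.re) * n) * ((X - C z.re) * n) + (z.im ^ 2) • (n * n) := by
    rw [hn, smul_eq_C_mul, show ‖z‖ ^ 2 = z.re ^ 2 + z.im ^ 2 by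
      rw [← Complex.normSq_eq_norm_sq, Complex.normSq_apply]; ring]
    simp only [map_mul, map_add, map_pow, map_ofNat]
    ring
  have h1 := congrArg (realExt L) key
  rw [realExt_mul_eq_zero hker, map_add, map_smul, smul_eq_mul] at h1
  have h2 := realExt_sq_nonneg' hker hpos ((X - C z.re) * n)
  have h3 := realExt_sq_pos hm hker hpos hnm.ne_zero (by omega)
  have h4 : 0 < z.im ^ 2 := by positivity
  have := mul_pos h4 h3
  linarith

theorem realExt_X_mul_sq_nonneg (hX : ∀ P, 0 ≤ L (X * (P * P))) (P : ℝ[X]) :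
    0 ≤ realExt L (X * (P * P)) := by
  rw [← ofCoeffs_coeff (P := P) (d := P.natDegree + 1)
    (Nat.lt_succ_self _)]
  have hdense : DenseRange (fun (q : Fin (P.natDegree + 1) → ℚ) i => (q i : ℝ)) :=
    DenseRange.piMap fun _ => Rat.denseRange_cast
  refine hdense.induction_on (fun i : Fin (P.natDegree + 1) => P.coeff i) (p := fun t => 0 ≤ realExt L (X * (ofCoeffs t * ofCoeffs t)))
    (isClosed_le continuous_const ?_) fun q => ?_
  · simp only [ofCoeffs, ← monomial_one_one_eq_X, Finset.sum_mul, Finset.mul_sum, monomial_mul_monomial,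
      map_sum, realExt_monomial]
    fun_prop
  · have : ofCoeffs (fun i => (q i : ℝ)) = (∑ i : Fin (P.natDegree + 1), monomial (i : ℕ) (q i)).map (algebraMap ℚ ℝ) := by
      simp [ofCoeffs, Polynomial.map_sum]
    rw [this, ← Polynomial.map_mul, ← Polynomial.map_X (algebraMap ℚ ℝ), ← Polynomial.map_mul, realExt_map]
    exact_mod_cast hX _

include hm hker hpos in
theorem root_nonneg_of_pos (hX : ∀ P, 0 ≤ L (X * (P * P))) {r : ℝ}
    (hr : (m.map (algebraMap ℚ ℝ)).IsRoot r) : 0 ≤ r := by
  by_contra hneg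
  push Not at hneg
  obtain ⟨n, hn⟩ := Polynomial.dvd_iff_isRoot.2 hr
  have hnm : n.Monic := monic_quot (hm.map _) (monic_X_sub_C r) hn
  have hdeg : n.natDegree + 1 = m.natDegree := by
    have := congrArg natDegree hn
    rw [(monic_X_sub_C r).natDegree_mul hnm, natDegree_X_sub_C, hm.natDegree_map] at this
    omega
  have key : m.map (algebraMap ℚ ℝ) * n = X * (n * n) + (-r) • (n * n) := by
    rw [hn, smul_eq_C_mul, map_neg]; ring
  have h1 := congrArg (realExt L) key
  rw [realExt_mul_eq_zero hker, map_add, map_smul, smul_eq_mul] at h1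
  have h2 := realExt_X_mul_sq_nonneg hX n
  have h3 := realExt_sq_pos hm hker hpos hnm.ne_zero (by omega)
  have := mul_pos (neg_pos.2 hneg) h3
  linarith

end

end GrothLib.AbVarAlg
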