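import Groth.Agent.Lib.AbVarAlg.PosForm
import Mathlib.Algebra.Star.BigOperators
import Mathlib.Algebra.Star.Module
import Mathlib.RingTheory.Adjoin.Polynomial.Basic
import Mathlib.RingTheory.IntegralClosure.IsIntegralClosure.Basic

/-!
# Symmetric elements for a positive involution
-/

namespace GrothLib.AbVarAlg

open Polynomial

variable {R : Type*} [Ring R] [Algebra ℚ R] [Module.Finite ℚ R] [StarRing R] [StarModule ℚ R]
  {σ : R →ₗ[ℚ] ℚ} {x : R}

omit [Module.Finite ℚ R] [StarModule ℚ R] in
theorem star_aeval (x : R) (p : ℚ[X]) : star (aeval x p) = aeval (star x) p := by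
  induction p using Polynomial.induction_on' with
  | add p q h1 h2 => simp [h1, h2]
  | monomial n c => simp [aeval_monomial, Algebra.algebraMap_eq_smul_one, star_pow]

omit [Module.Finite ℚ R] in
theorem minpoly_functional (hpos : ∀ y : R, y ≠ 0 → 0 < σ (y * star y)) (hx : star x = x) :
    (∀ P, minpoly ℚ x ∣ P → σ.comp (aeval x).toLinearMap P = 0) ∧
      ∀ P, ¬ minpoly ℚ x ∣ P → 0 < σ.comp (aeval x).toLinearMap (P * P) := by
  refine ⟨fun P h => by simp [(minpoly.dvd_iff).1 h], fun P h => ?_⟩
  have := hpos (aeval x P) fun h0 => h (minpoly.dvd _ _ h0)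
  rw [star_aeval, hx, ← map_mul] at this
  exact this

/-- The minimal polynomial of a symmetric element is separable. -/
theorem separable_minpoly (hpos : ∀ y : R, y ≠ 0 → 0 < σ (y * star y)) (hx : star x = x) :
    (minpoly ℚ x).Separable :=
  PerfectField.separable_iff_squarefree.2 (squarefree_of_pos
    (minpoly.monic (Algebra.IsIntegral.isIntegral x)) (minpoly_functional hpos hx).1 (minpoly_functional hpos hx).2)

/-- The roots of the minimal polynomial of a symmetric element are real. -/
theorem root_im_eq_zero (hpos : ∀ y : R, y ≠ 0 → 0 < σ (y * star y)) (hx : star x = x) {z : ℂ}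
    (hz : aeval z (minpoly ℚ x) = 0) : z.im = 0 :=
  im_eq_zero_of_pos (minpoly.monic (Algebra.IsIntegral.isIntegral x)) (minpoly_functional hpos hx).1
    (minpoly_functional hpos hx).2 hz

/-- The roots of the minimal polynomial of a norm `y * star y` with `y` normal are nonnegative. -/
theorem root_mul_star_nonneg (hpos : ∀ y : R, y ≠ 0 → 0 < σ (y * star y)) {y : R}
    (hy : Commute y (star y)) {z : ℂ} (hz : aeval z (minpoly ℚ (y * star y)) = 0) : z.im = 0 ∧ 0 ≤ z.re := by
  set w := y * star y with hw
  have hws : star w = w := by simp [hw]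
  have him := root_im_eq_zero hpos hws hz
  refine ⟨him, root_nonneg_of_pos (minpoly.monic (Algebra.IsIntegral.isIntegral w)) (minpoly_functional hpos hws).1
    (minpoly_functional hpos hws).2 (fun P => ?_) ?_⟩
  · have hc : Commute y (aeval w P) := by
      induction P using Polynomial.induction_on' with
      | add p q h1 h2 => rw [map_add]; exact h1.add_right h2
      | monomial n c =>
        rw [aeval_monomial]
        exact (Algebra.commute_algebraMap_right c y).mul_right (((Commute.refl y).mul_right hy).pow_right n)
    have e : aeval w (X * (P * P)) = aeval w P * y * star (aeval w P * y) := by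
      rw [star_mul, star_aeval, hws, map_mul, map_mul, aeval_X]
      have h1 : Commute w (aeval w P) := by
        simpa using Commute.map (Commute.all (X : ℚ[X]) P) (aeval w)
      rw [← mul_assoc, h1.eq, hw]
      simp only [mul_assoc]
    change 0 ≤ σ (aeval w (X * (P * P)))
    rw [e]
    by_cases h0 : aeval w P * y = 0
    · simp [h0]
    · exact (hpos _ h0).le
  · have hzr : (z.re : ℂ) = z := Complex.ext rfl (by simp [him])
    rw [← hzr] at hz
    rw [IsRoot, eval_map_algebraMap, ← map_eq_zero_iff _ (algebraMap ℝ ℂ).injective, ← aeval_algebraMap_apply]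
    exact hz

end GrothLib.AbVarAlg
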