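import Groth.Agent.Lib.AbVarAlg.PosForm
import Mathlib.Analysis.Real.Sqrt
import Mathlib.FieldTheory.IsAlgClosed.Basic
import Mathlib.Topology.Algebra.Module.FiniteDimension

/-!
# Sums of squares in `ℚ[X] / (m)` for totally real `m`
-/

namespace GrothLib.AbVarAlg

open Polynomial

/-- `P` is a sum of squares modulo `m`. -/
def SumSqMod (m P : ℚ[X]) : Prop := ∃ (n : ℕ) (y : Fin n → ℚ[X]), m ∣ P - ∑ i, y i ^ 2

namespace SumSqMod

variable {m P Q : ℚ[X]}

theorem of_dvd (h : m ∣ P) : SumSqMod m P := ⟨0, fun i => i.elim0, by simpa using h⟩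

theorem congr (hP : SumSqMod m P) (h : m ∣ Q - P) : SumSqMod m Q := by
  obtain ⟨n, y, hy⟩ := hP
  exact ⟨n, y, by simpa using dvd_add h hy⟩

theorem sq (y : ℚ[X]) : SumSqMod m (y ^ 2) := ⟨1, fun _ => y, by simp⟩

theorem add (hP : SumSqMod m P) (hQ : SumSqMod m Q) : SumSqMod m (P + Q) := by
  obtain ⟨n, y, hy⟩ := hP
  obtain ⟨k, z, hz⟩ := hQ
  refine ⟨n + k, Fin.append y z, ?_⟩
  rw [Fin.sum_univ_add]
  simp only [Fin.append_left, Fin.append_right]
  convert dvd_add hy hz using 1; ring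

theorem sum {ι : Type*} (s : Finset ι) (f : ι → ℚ[X]) (h : ∀ i ∈ s, SumSqMod m (f i)) :
    SumSqMod m (∑ i ∈ s, f i) := by
  classical
  induction s using Finset.induction with
  | empty => simpa using of_dvd (dvd_zero m)
  | insert a s ha ih =>
    rw [Finset.sum_insert ha]
    exact (h a (Finset.mem_insert_self a s)).add (ih fun i hi => h i (Finset.mem_insert_of_mem hi))

theorem const {c : ℚ} (hc : 0 ≤ c) : SumSqMod m (C c) := by
  have : C c = ∑ _i ∈ Finset.range (c.num.toNat * c.den), (C ((c.den : ℚ)⁻¹)) ^ 2 := by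
    rw [Finset.sum_const, Finset.card_range, nsmul_eq_mul, ← map_pow, ← map_natCast (C : ℚ →+* ℚ[X]), ← map_mul]
    congr 1
    obtain ⟨k, hk⟩ := Int.eq_ofNat_of_zero_le (Rat.num_nonneg.2 hc)
    conv_lhs => rw [← Rat.num_div_den c]
    rw [hk]
    simp only [Int.toNat_natCast, Nat.cast_mul, Int.cast_natCast]
    have : (c.den : ℚ) ≠ 0 := by positivity
    field_simp
  rw [this]
  exact sum _ _ fun i _ => sq _

theorem mul_sq (hP : SumSqMod m P) (u : ℚ[X]) : SumSqMod m (P * u ^ 2) := by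
  obtain ⟨n, y, hy⟩ := hP
  refine ⟨n, fun i => y i * u, ?_⟩
  convert dvd_mul_of_dvd_left hy (u ^ 2) using 1
  simp only [sub_mul, Finset.sum_mul, mul_pow]

end SumSqMod

/-- An element positive at all roots of a totally real squarefree `m` is a sum of squares modulo `m`. -/
theorem sumSqMod_of_pos {m : ℚ[X]} (hm : m.Monic) (hsep : m.Separable)
    (hreal : ∀ z : ℂ, aeval z m = 0 → z.im = 0) (Q : ℚ[X])
    (hQ : ∀ r : ℝ, aeval r m = 0 → 0 < aeval r Q) : SumSqMod m Q := by
  classical
  set d := m.natDegree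
  let T := (m.map (algebraMap ℚ ℝ)).roots.toFinset
  have hmem : ∀ r : ℝ, r ∈ T ↔ aeval r m = 0 := fun r => by
    simp [T, Polynomial.map_ne_zero hm.ne_zero, IsRoot, eval_map_algebraMap]
  have hcard : T.card = d := by
    have hC : (m.map (algebraMap ℚ ℂ)).roots.toFinset = T.image ((↑) : ℝ → ℂ) := by
      ext z
      simp only [Multiset.mem_toFinset, mem_roots', ne_eq, Polynomial.map_ne_zero hm.ne_zero, not_false_eq_true,
        true_and, IsRoot, eval_map_algebraMap, Finset.mem_image, hmem]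
      constructor
      · intro hz
        have him := hreal z hz
        have e : (z.re : ℂ) = z := Complex.ext rfl (by simp [him])
        refine ⟨z.re, ?_, e⟩
        rw [← e] at hz
        rw [show (z.re : ℂ) = algebraMap ℝ ℂ z.re from rfl, aeval_algebraMap_apply, map_eq_zero] at hz
        exact hz
      · rintro ⟨r, hr, rfl⟩
        rw [show (r : ℂ) = algebraMap ℝ ℂ r from rfl, aeval_algebraMap_apply, hr, map_zero]
    have h1 := congrArg Finset.card hC
    rw [Multiset.toFinset_card_of_nodup (nodup_roots (hsep.map (f := algebraMap ℚ ℂ))),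
      IsAlgClosed.card_roots_eq_natDegree, hm.natDegree_map,
      Finset.card_image_of_injective _ Complex.ofReal_injective] at h1
    exact h1.symm
  -- evaluation at the roots is an isomorphism on polynomials of degree `< d`
  let F : (Fin d → ℝ) →ₗ[ℝ] (T → ℝ) := Matrix.mulVecLin (Matrix.of fun (r : T) (i : Fin d) => (r : ℝ) ^ (i : ℕ))
  have hF : ∀ (t : Fin d → ℝ) (r : T), F t r = (ofCoeffs t).eval (r : ℝ) := fun t r => by
    simp [F, Matrix.mulVec, dotProduct, ofCoeffs, eval_finsetSum, mul_comm]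
  have hinj : Function.Injective F := by
    refine (injective_iff_map_eq_zero F).2 fun t ht => ?_
    by_contra hne
    have hP0 : ofCoeffs t ≠ 0 := fun h => hne (funext fun i => by
      have := congrArg (fun p : ℝ[X] => p.coeff (i : ℕ)) h
      simpa [ofCoeffs, coeff_monomial, Fin.val_eq_val] using this)
    have hdeg : (ofCoeffs t).natDegree < d := by
      obtain ⟨i, -⟩ : ∃ i, t i ≠ 0 := Function.ne_iff.1 hne
      rw [natDegree_lt_iff_degree_lt hP0]
      refine lt_of_le_of_lt (degree_sum_le _ _) ((Finset.sup_lt_iff (WithBot.bot_lt_coe _)).2 fun j _ => ?_)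
      exact lt_of_le_of_lt (degree_monomial_le _ _) (by exact_mod_cast j.2)
    have hsub : T.val ⊆ (ofCoeffs t).roots := fun r hr => by
      rw [mem_roots hP0]
      have := congrFun ht ⟨r, hr⟩
      rwa [hF] at this
    have := Multiset.card_le_card ((Multiset.le_iff_subset T.nodup).2 hsub)
    have := (ofCoeffs t).card_roots'
    have : T.val.card = d := hcard
    omega
  let e : (Fin d → ℝ) ≃ₗ[ℝ] (T → ℝ) := LinearEquiv.ofInjectiveOfFinrankEq F hinj (by simp [hcard])
  -- a rational polynomial all of whose small perturbations are sums of squares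
  let P₀ : ℚ[X] := ∑ i : Fin d, (1 + X ^ (2 * (i : ℕ)))
  have hball : ∀ c : Fin d → ℚ, (∀ i, |c i| ≤ 2) → SumSqMod m (P₀ + ∑ i : Fin d, monomial (i : ℕ) (c i)) := by
    intro c hc
    rw [← Finset.sum_add_distrib]
    refine SumSqMod.sum _ _ fun i _ => ?_
    have h0 : 0 ≤ 1 - c i ^ 2 / 4 := by
      have := abs_le.1 (hc i)
      nlinarith
    have : 1 + X ^ (2 * (i : ℕ)) + monomial (i : ℕ) (c i) = (X ^ (i : ℕ) + C (c i / 2)) ^ 2 + C (1 - c i ^ 2 / 4) := by
      rw [← C_mul_X_pow_eq_monomial]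
      have h2 : (C (c i) : ℚ[X]) = 2 * C (c i / 2) := by
        rw [show (2 : ℚ[X]) = C 2 from (map_ofNat C 2).symm, ← map_mul]; congr 1; ring
      have h4 : (C (1 - c i ^ 2 / 4) : ℚ[X]) = 1 - C (c i / 2) ^ 2 := by
        rw [← map_pow, ← map_one C, ← map_sub]; congr 1; ring
      rw [h4, h2]; ring
    rw [this]
    exact (SumSqMod.sq _).add (SumSqMod.const h0)
  have hpos0 : ∀ r : T, 0 < aeval (r : ℝ) P₀ := fun r => by
    have hd : 0 < d := hcard ▸ Finset.card_pos.2 ⟨r, r.2⟩
    simp only [P₀, map_sum, map_add, map_one, map_pow, aeval_X]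
    refine Finset.sum_pos (fun i _ => ?_) ⟨⟨0, hd⟩, Finset.mem_univ _⟩
    rw [mul_comm 2, pow_mul]; positivity
  let toPoly : (Fin d → ℚ) → ℚ[X] := fun q => ∑ i : Fin d, monomial (i : ℕ) (q i)
  have hcast : ∀ q : Fin d → ℚ, ofCoeffs (fun i => (q i : ℝ)) = (toPoly q).map (algebraMap ℚ ℝ) := fun q => by
    simp [ofCoeffs, toPoly, Polynomial.map_sum]
  -- the values of the coefficient vector of a remainder
  let rem : ℚ[X] → (Fin d → ℚ) := fun p i => (p %ₘ m).coeff i
  have hrem : ∀ p, toPoly (rem p) = p %ₘ m := fun p => by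
    by_cases hm1 : m = 1
    · have : d = 0 := by simp [d, hm1]
      subst hm1
      have : IsEmpty (Fin d) := by rw [this]; infer_instance
      simp [toPoly, Finset.univ_eq_empty]
    · simp only [toPoly, rem]
      rw [Fin.sum_univ_eq_sum_range (fun i => monomial i ((p %ₘ m).coeff i)) d]
      exact ((p %ₘ m).as_sum_range' d (natDegree_modByMonic_lt p hm hm1)).symm
  have hval : ∀ p (r : T), F (fun i => (rem p i : ℝ)) r = aeval (r : ℝ) p := fun p r => by
    rw [hF, hcast, eval_map_algebraMap, hrem, aeval_modByMonic_eq_self_of_root ((hmem _).1 r.2)]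
  -- approximate a square root
  let t₀ : Fin d → ℝ := e.symm fun r => Real.sqrt (aeval (r : ℝ) Q / aeval (r : ℝ) P₀)
  let G : (Fin d → ℝ) → (Fin d → ℝ) := fun t => e.symm fun r => aeval (r : ℝ) Q / F t r ^ 2
  have ht₀ : ∀ r, F t₀ r = Real.sqrt (aeval (r : ℝ) Q / aeval (r : ℝ) P₀) := fun r =>
    congrFun (e.apply_symm_apply _) r
  have hne : ∀ r, F t₀ r ≠ 0 := fun r => by
    rw [ht₀]; exact (Real.sqrt_pos.2 (div_pos (hQ _ ((hmem _).1 r.2)) (hpos0 r))).ne'
  have hGt₀ : G t₀ = fun i => (rem P₀ i : ℝ) := by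
    apply e.injective
    simp only [G, LinearEquiv.apply_symm_apply]
    funext r
    rw [show e (fun i => (rem P₀ i : ℝ)) r = F (fun i => (rem P₀ i : ℝ)) r from rfl, hval, ht₀,
      Real.sq_sqrt (div_pos (hQ _ ((hmem _).1 r.2)) (hpos0 r)).le]
    have := (hQ _ ((hmem _).1 r.2)).ne'
    field_simp
  have hFc : ∀ r, Continuous fun t => F t r := fun r =>
    (continuous_apply r).comp F.continuous_of_finiteDimensional
  have hGc : ContinuousAt G t₀ :=
    (LinearMap.continuous_of_finiteDimensional (e.symm : (T → ℝ) →ₗ[ℝ] Fin d → ℝ)).continuousAt.comp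
      (continuousAt_pi.2 fun r => continuousAt_const.div ((hFc r).continuousAt.pow 2) (pow_ne_zero 2 (hne r)))
  have hU : {t | (∀ r, F t r ≠ 0) ∧ dist (G t) (G t₀) < 2} ∈ nhds t₀ :=
    (Filter.eventually_all.2 fun r => (hFc r).continuousAt.eventually_ne (hne r)).and
      (hGc.eventually (Metric.ball_mem_nhds _ two_pos))
  obtain ⟨_, hq, q, rfl⟩ := mem_closure_iff_nhds.1
    ((DenseRange.piMap fun _ : Fin d => Rat.denseRange_cast (𝕜 := ℝ)) t₀) _ hU
  obtain ⟨hq0, hqd⟩ := hq
  set R := toPoly q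
  have hFR : ∀ r : T, F (fun i => (q i : ℝ)) r = aeval (r : ℝ) R := fun r => by
    rw [hF, hcast, eval_map_algebraMap]
  have hcop : IsCoprime R m := by
    refine (Polynomial.isCoprime_iff_aeval_ne_zero_of_isAlgClosed ℚ ℂ _ _).2 fun z => ?_
    by_cases hz : aeval z m = 0
    · left
      intro h
      have e' : (z.re : ℂ) = z := Complex.ext rfl (by simp [hreal z hz])
      rw [← e', show (z.re : ℂ) = algebraMap ℝ ℂ z.re from rfl, aeval_algebraMap_apply, map_eq_zero] at h hz
      exact hq0 ⟨z.re, (hmem _).2 hz⟩ (by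
        change F (fun i => (q i : ℝ)) _ = 0
        rw [hFR]; exact h)
    · right; exact hz
  obtain ⟨v, w, hvw⟩ := hcop
  have hGq : G (fun i => (q i : ℝ)) = fun i => (rem (Q * v ^ 2) i : ℝ) := by
    apply e.injective
    simp only [G, LinearEquiv.apply_symm_apply]
    funext r
    rw [show e (fun i => (rem (Q * v ^ 2) i : ℝ)) r = F (fun i => (rem (Q * v ^ 2) i : ℝ)) r from rfl, hval, hFR]
    have h1 := congrArg (aeval (r : ℝ)) hvw
    simp only [map_add, map_mul, map_one, (hmem _).1 r.2, mul_zero, add_zero] at h1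
    have hR : aeval (r : ℝ) R ≠ 0 := fun h => by rw [h, mul_zero] at h1; exact zero_ne_one h1
    rw [map_mul, map_pow, div_eq_iff (pow_ne_zero 2 hR)]
    rw [mul_assoc, ← mul_pow, h1, one_pow, mul_one]
  have hz : SumSqMod m (Q * v ^ 2) := by
    have := hball (rem (Q * v ^ 2) - rem P₀) fun i => by
      have h := lt_of_le_of_lt (dist_le_pi_dist (G fun i => (q i : ℝ)) (G t₀) i) hqd
      rw [hGq, hGt₀, Real.dist_eq] at h
      have h' : ((|rem (Q * v ^ 2) i - rem P₀ i| : ℚ) : ℝ) < 2 := by push_cast; exact h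
      exact le_of_lt (by exact_mod_cast h')
    refine this.congr ?_
    have e1 : ∑ i : Fin d, monomial (i : ℕ) ((rem (Q * v ^ 2) - rem P₀) i) =
        (Q * v ^ 2) %ₘ m - P₀ %ₘ m := by
      simp only [Pi.sub_apply, map_sub, Finset.sum_sub_distrib]
      rw [← hrem, ← hrem]
    rw [e1]
    have h1 := modByMonic_add_div (Q * v ^ 2) m
    have h2 := modByMonic_add_div P₀ m
    exact ⟨(Q * v ^ 2) /ₘ m - P₀ /ₘ m, by linear_combination -h1 + h2⟩
  refine (hz.mul_sq R).congr ⟨Q * w * (1 + v * R), ?_⟩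
  linear_combination (-(Q * (1 + v * R))) * hvw

end GrothLib.AbVarAlg
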